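import Groth.Agent.VBPnJump.Line
import Groth.Agent.CycLib.ChowOp.Ops

/-!
# Gluing rank two bundles with sections vanishing at disjoint sets of points
-/

set_option autoImplicit false
set_option linter.style.haveILetI false
set_option backward.isDefEq.respectTransparency false
set_option backward.isDefEq.respectTransparency.types false
set_option synthInstance.maxHeartbeats 400000

universe u

open CategoryTheory CategoryTheory.Limits AlgebraicGeometry TopologicalSpace Opposite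

noncomputable section

namespace Groth.Agent.VBPnJump

open Groth.Agent.ProjTwist Groth.Agent.ProjTwist.Pn
open Groth.Agent.PullStalk.Exact (stalkLin stalk_exact)

section Abstract

variable {C : Type*} [Category C] [Abelian C]

/-- An epimorphism compatible with maps to a common object restricts to an epimorphism of kernels. -/
theorem epi_kernel_lift {B B' W : C} (g : B ⟶ W) (Q : B ⟶ B') [Epi Q] (g' : B' ⟶ W) (h : Q ≫ g' = g) :
    Epi (kernel.lift g' (kernel.ι g ≫ Q) (by rw [Category.assoc, h, kernel.condition])) := by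
  rw [epi_iff_surjective_up_to_refinements]
  intro T x
  obtain ⟨T', p, hp, y, hy⟩ := surjective_up_to_refinements_of_epi Q (x ≫ kernel.ι g')
  have hyg : y ≫ g = 0 := by rw [← h, ← reassoc_of% hy, kernel.condition, comp_zero, comp_zero]
  refine ⟨T', p, hp, kernel.lift g y hyg, ?_⟩
  rw [← cancel_mono (kernel.ι g')]
  simp [hy]

theorem mono_kernel_fst {A B W : C} (a : A ⟶ W) (b : B ⟶ W) [Mono b] :
    Mono (kernel.ι (biprod.desc a b) ≫ biprod.fst) := by
  refine Preadditive.mono_of_cancel_zero _ fun {T} y hy => ?_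
  have h := congrArg (fun t => y ≫ t) (kernel.condition (biprod.desc a b))
  have e : kernel.ι (biprod.desc a b) ≫ biprod.desc a b =
      (kernel.ι (biprod.desc a b) ≫ biprod.fst) ≫ a + (kernel.ι (biprod.desc a b) ≫ biprod.snd) ≫ b := by
    rw [biprod.desc_eq, Preadditive.comp_add, Category.assoc, Category.assoc]
  simp only [e, Preadditive.comp_add, comp_zero] at h
  rw [← Category.assoc y _ a, hy, zero_comp, zero_add, ← Category.assoc, ← Category.assoc, ← zero_comp (f := b),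
    cancel_mono] at h
  rw [← cancel_mono (kernel.ι (biprod.desc a b)), zero_comp]
  apply biprod.hom_ext
  · rw [Category.assoc, hy, zero_comp]
  · rw [Category.assoc] at h ⊢
    rw [h, zero_comp]

end Abstract

variable (k : Type u) [Field k]

local notation "P" => CohB1.ProjSpace 2 k
local notation "L" => CohB1.ProjSpace 1 k
local notation "O₂" => Coh.structureModule (CohB1.ProjSpace 2 k)

/-- Restriction to a line. -/
abbrev res (i : CohB1.ProjSpace 1 k ⟶ CohB1.ProjSpace 2 k) :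
    (CohB1.ProjSpace 2 k).Modules ⥤ (CohB1.ProjSpace 1 k).Modules :=
  Scheme.Modules.pullback i

/-- A rank two bundle on the plane with a section whose zeros are the points of `Z`, each with multiplicity one. -/
structure Jump (Z : Set (CohB1.ProjSpace 2 k)) where
  E : (CohB1.ProjSpace 2 k).Modules
  hE : FlatMod.IsFinLocFreeOfRank 2 E
  σ : O₂ ⟶ E
  π : E ⟶ O₂
  w : σ ≫ π = 0
  splitσ : ∀ x ∉ Z, ∃ l : E.presheaf.stalk x →ₗ[(CohB1.ProjSpace 2 k).presheaf.stalk x]
    (O₂).presheaf.stalk x, ∀ t, l (stalkLin σ x t) = t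
  surjπ : ∀ x ∉ Z, Surj π x
  line : ∀ (i : CohB1.ProjSpace 1 k ⟶ CohB1.ProjSpace 2 k), IsClosedImmersion i →
    Nonempty ((Scheme.Modules.pullback i).obj (Twist.twistProjSpace 2 k 1) ≅ Twist.twistProjSpace 1 k 1) →
    χ k ((res k i).obj E) = 2 ∧
      ∃ (q : (res k i).obj E ⟶ Twist.twistProjSpace 1 k (-((Z ∩ Set.range i.base).ncard : ℤ)))
        (c : Twist.twistProjSpace 1 k (-((Z ∩ Set.range i.base).ncard : ℤ)) ⟶ (res k i).obj O₂),
        Epi q ∧ Mono c ∧ q ≫ c = (res k i).map π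

variable {k}

theorem finLocFree_O {X : Scheme.{u}} : FlatMod.IsFinLocFreeOfRank 1 (Coh.structureModule X) :=
  isFinLocFreeOfRank_one (LFFrame.isInvertible_structureModule X)

theorem finLocFree_res {M : (CohB1.ProjSpace 2 k).Modules} (h : FlatMod.IsFinLocFree M)
    (i : CohB1.ProjSpace 1 k ⟶ CohB1.ProjSpace 2 k) : FlatMod.IsFinLocFree ((res k i).obj M) :=
  KFlat.LocFree.isFinLocFree_pull i h

theorem euler_res_O (i : CohB1.ProjSpace 1 k ⟶ CohB1.ProjSpace 2 k)
    (hO : Nonempty ((Scheme.Modules.pullback i).obj (Twist.twistProjSpace 2 k 1) ≅ Twist.twistProjSpace 1 k 1)) :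
    χ k ((res k i).obj O₂) = 1 := by
  obtain ⟨e⟩ := VBPnHyper.nonempty_pullTwistO i hO 0
  exact (euler_iso ((res k i).mapIso (twistZeroIso (CohB1.polyGrading 2 k)) ≪≫ e)).trans
    ((euler_twist k 0).trans (zero_add 1))

theorem euler_res_add (i : CohB1.ProjSpace 1 k ⟶ CohB1.ProjSpace 2 k) {A B C : (CohB1.ProjSpace 2 k).Modules}
    (a : A ⟶ B) (b : B ⟶ C) (w : a ≫ b = 0) (h : (ShortComplex.mk a b w).ShortExact)
    (hA : FlatMod.IsFinLocFree A) (hB : FlatMod.IsFinLocFree B) (hC : FlatMod.IsFinLocFree C) :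
    χ k ((res k i).obj B) = χ k ((res k i).obj A) + χ k ((res k i).obj C) := by
  obtain ⟨w', h'⟩ := CycLib.ChowOp.shortExact_pullback i a b w h hC
  exact euler_add k (S := ShortComplex.mk ((res k i).map a) ((res k i).map b) w') h'
    (finLocFree_res (M := A) hA i) (finLocFree_res (M := B) hB i) (finLocFree_res (M := C) hC i)

theorem euler_res_biprod (i : CohB1.ProjSpace 1 k ⟶ CohB1.ProjSpace 2 k) {A B : (CohB1.ProjSpace 2 k).Modules}
    (hA : FlatMod.IsFinLocFree A) (hB : FlatMod.IsFinLocFree B) :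
    χ k ((res k i).obj (A ⊞ B)) = χ k ((res k i).obj A) + χ k ((res k i).obj B) :=
  euler_res_add i (biprod.inl : A ⟶ A ⊞ B) biprod.snd biprod.inl_snd
    (ShortComplex.Splitting.shortExact
      { r := biprod.fst, s := biprod.inr, f_r := biprod.inl_fst, s_g := biprod.inr_snd,
        id := biprod.total }) hA (PerfTri.Cone.isFinLocFree_biprod hA hB) hB

theorem epi_lift_map {C D : Type*} [Category C] [Category D] [Abelian C] [Abelian D] (G : C ⥤ D) [G.Additive]
    {E₁ E₂ : C} {A B : D} (q₁ : G.obj E₁ ⟶ A) (q₂ : G.obj E₂ ⟶ B) [Epi q₁] [Epi q₂] :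
    Epi (biprod.lift (G.map (biprod.fst : E₁ ⊞ E₂ ⟶ E₁) ≫ q₁) (G.map (biprod.snd : E₁ ⊞ E₂ ⟶ E₂) ≫ q₂)) := by
  refine Preadditive.epi_of_cancel_zero _ fun {T} r hr => ?_
  have h1 := congrArg (fun t => G.map (biprod.inl : E₁ ⟶ E₁ ⊞ E₂) ≫ t) hr
  have h2 := congrArg (fun t => G.map (biprod.inr : E₂ ⟶ E₁ ⊞ E₂) ≫ t) hr
  simp only [biprod.lift_eq, Preadditive.add_comp, Preadditive.comp_add, Category.assoc, ← Functor.map_comp_assoc,
    biprod.inl_fst, biprod.inl_snd, biprod.inr_fst, biprod.inr_snd, Functor.map_id, Functor.map_zero,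
    Category.id_comp, zero_comp, comp_zero, add_zero, zero_add] at h1 h2
  rw [CategoryTheory.Functor.map_id, Category.id_comp] at h1 h2
  exact biprod.hom_ext' _ _ (((cancel_epi q₁).mp (h1.trans comp_zero.symm)).trans comp_zero.symm)
    (((cancel_epi q₂).mp (h2.trans comp_zero.symm)).trans comp_zero.symm)

variable {Z₁ Z₂ : Set (CohB1.ProjSpace 2 k)}

set_option maxHeartbeats 1600000 in
/-- Gluing. -/
theorem Jump.union (J₁ : Jump k Z₁) (J₂ : Jump k Z₂) (hd : Disjoint Z₁ Z₂) (hf₁ : Z₁.Finite) (hf₂ : Z₂.Finite) :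
    Nonempty (Jump k (Z₁ ∪ Z₂)) := by
  classical
  have hE₁ := DEq.LocFreeCx.isFinLocFree_of_ofRank J₁.hE
  have hE₂ := DEq.LocFreeCx.isFinLocFree_of_ofRank J₂.hE
  have hM := PerfTri.Cone.isFinLocFree_biprod hE₁ hE₂
  have hO := DEq.LocFreeCx.isFinLocFree_of_ofRank (finLocFree_O (X := CohB1.ProjSpace 2 k))
  let D : J₁.E ⊞ J₂.E ⟶ O₂ := biprod.desc J₁.π (-J₂.π)
  have hor : ∀ x, x ∉ Z₁ ∨ x ∉ Z₂ := fun x => not_and_or.mp fun h => Set.disjoint_left.mp hd h.1 h.2
  haveI hDepi : Epi D := Omega.Stalks.epi_of_stalk fun x => (hor x).elim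
    (fun h => surj_left _ _ (J₁.surjπ x h)) (fun h => surj_right _ _ (surj_neg (J₂.surjπ x h)))
  let F := kernel D
  let ι : F ⟶ J₁.E ⊞ J₂.E := kernel.ι D
  have hF : FlatMod.IsFinLocFreeOfRank 3 F := ofRank_kernel D (r := 3) (s := 1) hM
    (fun y => by rw [VBPnSerre.fibreRank_biprod hE₁ hE₂, DEq.LocFreeCx.fibreRank_of_ofRank J₁.hE,
      DEq.LocFreeCx.fibreRank_of_ofRank J₂.hE]) finLocFree_O
  have hF' := DEq.LocFreeCx.isFinLocFree_of_ofRank hF
  let τ : O₂ ⟶ F := kernel.lift D (biprod.lift J₁.σ (-J₂.σ))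
    (by simp [D, J₁.w, J₂.w])
  let s₀ : O₂ ⟶ F := kernel.lift D (biprod.lift J₁.σ 0) (by simp [D, J₁.w])
  let p₀ : F ⟶ O₂ := ι ≫ biprod.fst ≫ J₁.π
  have hτp : τ ≫ p₀ = 0 := by simp [τ, p₀, ι, J₁.w]
  have hsp : s₀ ≫ p₀ = 0 := by simp [s₀, p₀, ι, J₁.w]
  have f1 : ∀ (x : CohB1.ProjSpace 2 k) (t), stalkLin (biprod.fst : J₁.E ⊞ J₂.E ⟶ J₁.E) x (stalkLin ι x (stalkLin τ x t)) =
      stalkLin J₁.σ x t := fun x t => by
    rw [← Omega.Stalks.stalkLin_comp, ← Omega.Stalks.stalkLin_comp]; simp [τ, ι]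
  have f2 : ∀ (x : CohB1.ProjSpace 2 k) (t), stalkLin (biprod.snd : J₁.E ⊞ J₂.E ⟶ J₂.E) x (stalkLin ι x (stalkLin τ x t)) =
      -stalkLin J₂.σ x t := fun x t => by
    rw [← Omega.Stalks.stalkLin_comp, ← Omega.Stalks.stalkLin_comp, ← stalkLin_neg]; simp [τ, ι]
  have g1 : ∀ (x : CohB1.ProjSpace 2 k) (t), stalkLin (biprod.fst : J₁.E ⊞ J₂.E ⟶ J₁.E) x (stalkLin ι x (stalkLin s₀ x t)) =
      stalkLin J₁.σ x t := fun x t => by
    rw [← Omega.Stalks.stalkLin_comp, ← Omega.Stalks.stalkLin_comp]; simp [s₀, ι]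
  have g2 : ∀ (x : CohB1.ProjSpace 2 k) (t), stalkLin (biprod.snd : J₁.E ⊞ J₂.E ⟶ J₂.E) x (stalkLin ι x (stalkLin s₀ x t)) = 0 :=
    fun x t => by
    rw [← Omega.Stalks.stalkLin_comp, ← Omega.Stalks.stalkLin_comp]; simp [s₀, ι, Omega.Stalks.stalkLin_zero]
  have hτsplit : ∀ x, ∃ l : F.presheaf.stalk x →ₗ[(CohB1.ProjSpace 2 k).presheaf.stalk x]
      (O₂).presheaf.stalk x, ∀ t, l (stalkLin τ x t) = t := fun x => by
    rcases hor x with h | h
    · obtain ⟨l, hl⟩ := J₁.splitσ x h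
      exact ⟨l.comp ((stalkLin biprod.fst x).comp (stalkLin ι x)), fun t => by
        simp only [LinearMap.comp_apply, f1, hl]⟩
    · obtain ⟨l, hl⟩ := J₂.splitσ x h
      exact ⟨-(l.comp ((stalkLin biprod.snd x).comp (stalkLin ι x))), fun t => by
        simp only [LinearMap.neg_apply, LinearMap.comp_apply, f2, map_neg, hl, neg_neg]⟩
  obtain ⟨hτmono, hE⟩ := VBPnHyper.mono_and_rank_of_split (N := 2) (r := 2) hF τ hτsplit
  have hS : (ShortComplex.mk τ (cokernel.π τ) (cokernel.condition τ)).ShortExact :=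
    ShortComplex.ShortExact.mk (mono_f := hτmono) (epi_g := inferInstanceAs (Epi (cokernel.π τ)))
      (ShortComplex.exact_of_g_is_cokernel _ (cokernelIsCokernel τ))
  refine ⟨{ E := cokernel τ, hE := hE, σ := s₀ ≫ cokernel.π τ, π := cokernel.desc τ p₀ hτp, w := ?_,
            splitσ := ?_, surjπ := ?_, line := ?_ }⟩
  · rw [Category.assoc, cokernel.π_desc, hsp]
  · intro x hx
    obtain ⟨l₁, hl₁⟩ := J₁.splitσ x fun h => hx (Or.inl h)
    obtain ⟨l₂, hl₂⟩ := J₂.splitσ x fun h => hx (Or.inr h)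
    let l : F.presheaf.stalk x →ₗ[(CohB1.ProjSpace 2 k).presheaf.stalk x] (O₂).presheaf.stalk x :=
      l₁.comp ((stalkLin biprod.fst x).comp (stalkLin ι x)) + l₂.comp ((stalkLin biprod.snd x).comp (stalkLin ι x))
    obtain ⟨-, hex, hsurj⟩ := stalk_exact hS x
    haveI := (EpiLocus.free_stalk_of_isFinLocFree (DEq.LocFreeCx.isFinLocFree_of_ofRank hE) x).1
    obtain ⟨s, hs⟩ := Module.projective_lifting_property (stalkLin (cokernel.π τ) x) LinearMap.id hsurj
    refine ⟨l.comp s, fun t => ?_⟩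
    rw [Omega.Stalks.stalkLin_comp]
    obtain ⟨d, hd⟩ := (hex (s (stalkLin (cokernel.π τ) x (stalkLin s₀ x t)) - stalkLin s₀ x t)).mp (by
      show stalkLin (cokernel.π τ) x _ = 0
      rw [map_sub, sub_eq_zero]
      exact LinearMap.congr_fun hs _)
    change stalkLin τ x d = _ at hd
    rw [LinearMap.comp_apply, ← sub_add_cancel (s _) (stalkLin s₀ x t), ← hd, map_add]
    simp only [l, LinearMap.add_apply, LinearMap.comp_apply, f1, f2, g1, g2, map_neg, map_zero, hl₁, hl₂]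
    abel
  · intro x hx
    refine surj_of_comp (cokernel.π τ) _ ?_
    rw [cokernel.π_desc]
    intro t
    obtain ⟨e₁, he₁⟩ := J₁.surjπ x (fun h => hx (Or.inl h)) t
    obtain ⟨e₂, he₂⟩ := J₂.surjπ x (fun h => hx (Or.inr h)) t
    obtain ⟨-, hex, -⟩ := stalk_exact (shortExact_kernel' D) x
    obtain ⟨f, hf⟩ := (hex (stalkLin (biprod.inl : J₁.E ⟶ J₁.E ⊞ J₂.E) x e₁ +
        stalkLin (biprod.inr : J₂.E ⟶ J₁.E ⊞ J₂.E) x e₂)).mp (by
      show stalkLin D x _ = 0
      rw [map_add, ← Omega.Stalks.stalkLin_comp, ← Omega.Stalks.stalkLin_comp]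
      simp [D, stalkLin_neg, he₁, he₂])
    change stalkLin ι x f = _ at hf
    refine ⟨f, ?_⟩
    simp only [p₀]
    rw [Omega.Stalks.stalkLin_comp, hf, map_add, ← Omega.Stalks.stalkLin_comp, ← Omega.Stalks.stalkLin_comp]
    simp [Omega.Stalks.stalkLin_zero, he₁]
  · intro i hi hOi
    obtain ⟨he₁, q₁, c₁, hq₁, hc₁, hqc₁⟩ := J₁.line i hi hOi
    obtain ⟨he₂, q₂, c₂, hq₂, hc₂, hqc₂⟩ := J₂.line i hi hOi
    haveI := hq₁; haveI := hq₂; haveI := hc₁; haveI := hc₂
    have hcard : ((Z₁ ∪ Z₂) ∩ Set.range i.base).ncard =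
        (Z₁ ∩ Set.range i.base).ncard + (Z₂ ∩ Set.range i.base).ncard := by
      rw [Set.union_inter_distrib_right]
      exact Set.ncard_union_eq (hd.mono Set.inter_subset_left Set.inter_subset_left)
        (hf₁.inter_of_left _) (hf₂.inter_of_left _)
    constructor
    · have h1 := euler_res_add i τ (cokernel.π τ) (cokernel.condition τ) hS hO hF'
        (DEq.LocFreeCx.isFinLocFree_of_ofRank hE)
      have h2 := euler_res_add i ι D (kernel.condition D) (shortExact_kernel' D) hF' hM hO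
      rw [euler_res_biprod i hE₁ hE₂, he₁, he₂, euler_res_O i hOi] at h2
      rw [euler_res_O i hOi] at h1
      omega
    haveI : (res k i).Additive := inferInstance
    let D' := biprod.desc c₁ (-c₂)
    have hD'2 : Mono (-c₂) := Preadditive.mono_of_cancel_zero _ fun y hy => (cancel_mono c₂).mp (by
      rw [zero_comp]; simpa using hy)
    haveI := hD'2
    haveI : Epi D' := Omega.Stalks.epi_of_stalk fun y => by
      rcases hor (i.base y) with h | h
      · exact surj_left _ _ (surj_of_comp q₁ c₁ (hqc₁ ▸ surj_pullback i J₁.π (J₁.surjπ _ h)))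
      · exact surj_right _ _ (surj_neg (surj_of_comp q₂ c₂ (hqc₂ ▸ surj_pullback i J₂.π (J₂.surjπ _ h))))
    let Q := biprod.lift ((res k i).map (biprod.fst : J₁.E ⊞ J₂.E ⟶ J₁.E) ≫ q₁)
      ((res k i).map (biprod.snd : J₁.E ⊞ J₂.E ⟶ J₂.E) ≫ q₂)
    haveI : Epi Q := epi_lift_map (res k i) q₁ q₂
    have hQ : Q ≫ D' = (res k i).map D := by
      simp only [Q, D', biprod.lift_desc, Category.assoc, Preadditive.comp_neg, hqc₁, hqc₂]
      rw [← Functor.map_comp, ← Functor.map_comp, ← Functor.map_neg, ← Functor.map_add]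
      simp only [D, biprod.desc_eq, Preadditive.comp_neg]
    obtain ⟨wG, hG⟩ := CycLib.ChowOp.shortExact_pullback i ι D (kernel.condition D) (shortExact_kernel' D) hO
    haveI := hG.mono_f
    let e : (res k i).obj F ≅ kernel ((res k i).map D) :=
      hG.fIsKernel.conePointUniqueUpToIso (limit.isLimit _)
    have he : e.hom ≫ kernel.ι ((res k i).map D) = (res k i).map ι :=
      IsLimit.conePointUniqueUpToIso_hom_comp hG.fIsKernel (limit.isLimit _) WalkingParallelPair.zero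
    haveI := epi_kernel_lift ((res k i).map D) Q D' hQ
    obtain ⟨φ⟩ := kernel_line D' (isFinLocFreeOfRank_one (isInvertible_twistProjSpace 1 k _))
      (isFinLocFreeOfRank_one (isInvertible_twistProjSpace 1 k _))
      (isFinLocFreeOfRank_one (PicCl.isInvertible_pullback i (LFFrame.isInvertible_structureModule _)))
      (d := -(((Z₁ ∪ Z₂) ∩ Set.range i.base).ncard : ℤ))
      (by rw [euler_twist, euler_twist, euler_res_O i hOi, hcard]; push_cast; ring)
    let qF : (res k i).obj F ⟶ Twist.twistProjSpace 1 k (-(((Z₁ ∪ Z₂) ∩ Set.range i.base).ncard : ℤ)) :=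
      e.hom ≫ kernel.lift D' (kernel.ι ((res k i).map D) ≫ Q)
        (by rw [Category.assoc, hQ, kernel.condition]) ≫ φ.hom
    let cN := φ.inv ≫ (kernel.ι D' ≫ biprod.fst) ≫ c₁
    haveI : Mono (kernel.ι D' ≫ biprod.fst) := mono_kernel_fst c₁ (-c₂)
    haveI : Mono cN := mono_comp _ _
    have hqF : qF ≫ cN = (res k i).map p₀ := by
      simp only [qF, cN, Category.assoc, Iso.hom_inv_id_assoc, kernel.lift_ι_assoc]
      rw [reassoc_of% he]
      simp only [Q, biprod.lift_fst_assoc, Category.assoc, hqc₁, p₀, ← Functor.map_comp]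
    obtain ⟨wS, hGS⟩ := CycLib.ChowOp.shortExact_pullback i τ (cokernel.π τ) (cokernel.condition τ) hS
      (DEq.LocFreeCx.isFinLocFree_of_ofRank hE)
    have hτq : (res k i).map τ ≫ qF = 0 := by
      rw [← cancel_mono cN, Category.assoc, hqF, ← Functor.map_comp, hτp, Functor.map_zero, zero_comp]
    obtain ⟨q, hq⟩ := CokernelCofork.IsColimit.desc' hGS.gIsCokernel qF hτq
    have hq' : (res k i).map (cokernel.π τ) ≫ q = qF := hq
    refine ⟨q, cN, ?_, inferInstance, ?_⟩
    · haveI : Epi qF := inferInstance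
      exact epi_of_epi_fac hq'
    · haveI := hGS.epi_g
      haveI : Epi ((res k i).map (cokernel.π τ)) := hGS.epi_g
      rw [← cancel_epi ((res k i).map (cokernel.π τ)), reassoc_of% hq', hqF, ← Functor.map_comp, cokernel.π_desc]

end Groth.Agent.VBPnJump

end
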