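import Groth.Agent.VBPnHyper.Point

/-!
# A closed point of the plane as the common zero of two lines
-/

set_option autoImplicit false
set_option backward.isDefEq.respectTransparency false
set_option backward.isDefEq.respectTransparency.types false

universe u

open CategoryTheory CategoryTheory.Limits AlgebraicGeometry TopologicalSpace Opposite

noncomputable section

namespace Groth.Agent.VBPnJump

open Groth.Agent.ProjTwist Groth.Agent.ProjTwist.Pn Groth.Agent.SepTang48 Groth.Agent.Props.GenLocus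
open Groth.Agent.VBPnHyper

variable {k : Type u} [Field k] [IsAlgClosed k]

/-- A closed point of the plane is cut out by two linear forms, a third one being nonzero there. -/
theorem point_forms (z : CohB1.ProjSpace 2 k) (hz : IsClosed ({z} : Set (CohB1.ProjSpace 2 k))) :
    ∃ (l₁ l₂ h : MvPolynomial (Fin 3) k), l₁ ∈ CohB1.polyGrading 2 k 1 ∧ l₂ ∈ CohB1.polyGrading 2 k 1 ∧
      h ∈ CohB1.polyGrading 2 k 1 ∧ z ∉ Proj.basicOpen (CohB1.polyGrading 2 k) l₁ ∧
      z ∉ Proj.basicOpen (CohB1.polyGrading 2 k) l₂ ∧ z ∈ Proj.basicOpen (CohB1.polyGrading 2 k) h ∧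
      ∀ x : CohB1.ProjSpace 2 k, x ∉ Proj.basicOpen (CohB1.polyGrading 2 k) l₁ →
        x ∉ Proj.basicOpen (CohB1.polyGrading 2 k) l₂ → x = z := by
  classical
  obtain ⟨i, hi⟩ := exists_mem_D (k := k) z
  haveI := isMaximal_of_isClosed k 2 hi hz
  let m := ((isAffineOpen_D k 2 i).primeIdealOf ⟨z, hi⟩).asIdeal
  choose a₀ ha₀ using fun l => residue_trivial (const k 2 i) (finiteType_const k 2 i) m (ρ k 2 i l)
  let a := Function.update a₀ i 1
  have ha : ∀ l, ρ k 2 i l - const k 2 i (a l) ∈ m := fun l => by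
    rcases eq_or_ne l i with rfl | hl
    · simp [a, ρ_self]
    · simpa [a, hl] using ha₀ l
  -- forms vanishing at `a` vanish at `z`
  have hlin : ∀ c : Fin 3 → k, ∑ l, c l * a l = 0 →
      z ∉ Proj.basicOpen (CohB1.polyGrading 2 k) (VBPnHyper.form (n := 1) c) := by
    intro c hc hzc
    have h0 : (∑ l, const k 2 i (c l) * const k 2 i (a l)) = 0 := by
      rw [← map_zero (const k 2 i), ← hc, map_sum]
      exact Finset.sum_congr rfl fun l _ => (map_mul _ _ _).symm
    have hm : lin k 2 i c ∈ m := by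
      have : lin k 2 i c = ∑ l, const k 2 i (c l) * (ρ k 2 i l - const k 2 i (a l)) := by
        simp only [mul_sub, Finset.sum_sub_distrib, h0, sub_zero]
        rfl
      rw [this]
      exact sum_mem fun l _ => Ideal.mul_mem_left _ _ (ha l)
    refine (mem_basicOpen_iff k 2 hi _).mp ?_ hm
    have e : ProjMorph.ratio (X_mem_polyGrading 2 k i) (form_mem (n := 1) c) = lin k 2 i c :=
      (BertiniPn.ratio_eq_lin i (form_mem (n := 1) c)).trans
        (congrArg (lin k 2 i) (funext (coeff_form (n := 1) c)))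
    rw [← e]
    exact (SetLike.ext_iff.mp (basicOpen_fracFun (form_mem (n := 1) c) (X_mem_polyGrading 2 k i) le_rfl) z).mpr
      ⟨hi, hzc⟩
  have hai : a i = 1 := Function.update_self i 1 a₀
  let v : Fin 3 → (Fin 3 → k) := fun l => Pi.single l 1 - a l • Pi.single i 1
  have hv : ∀ l, ∑ t, v l t * a t = 0 := fun l => by
    simp [v, sub_mul, Finset.sum_sub_distrib, Pi.single_apply, hai]
  have hform : ∀ l, VBPnHyper.form (n := 1) (v l) = MvPolynomial.X l - MvPolynomial.C (a l) * MvPolynomial.X i := fun l => by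
    simp [VBPnHyper.form, v, sub_mul, Finset.sum_sub_distrib, Pi.single_apply, apply_ite MvPolynomial.C, ite_mul]
  let j₁ : Fin 3 := i.succAbove 0
  let j₂ : Fin 3 := i.succAbove 1
  refine ⟨VBPnHyper.form (n := 1) (v j₁), VBPnHyper.form (n := 1) (v j₂), MvPolynomial.X i, form_mem (n := 1) _, form_mem (n := 1) _,
    X_mem_polyGrading 2 k i, hlin _ (hv j₁), hlin _ (hv j₂), hi, fun x hx₁ hx₂ => ?_⟩
  let I : Ideal (MvPolynomial (Fin 3) k) := Ideal.span {VBPnHyper.form (n := 1) (v j₁), VBPnHyper.form (n := 1) (v j₂)}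
  let ε : MvPolynomial (Fin 3) k →ₐ[k] MvPolynomial (Fin 3) k :=
    MvPolynomial.aeval fun l => MvPolynomial.C (a l) * MvPolynomial.X i
  have hquot : (Ideal.Quotient.mkₐ k I).comp ε = Ideal.Quotient.mkₐ k I := MvPolynomial.algHom_ext fun l => by
    refine (Ideal.Quotient.eq.mpr ?_)
    rcases eq_or_ne l i with rfl | hl
    · simp [ε, hai]
    obtain ⟨t, rfl⟩ := Fin.exists_succAbove_eq hl
    have : ε (MvPolynomial.X (i.succAbove t)) - MvPolynomial.X (i.succAbove t) =
        -VBPnHyper.form (n := 1) (v (i.succAbove t)) := by simp [ε, hform]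
    refine (this.symm ▸ ?_ : (ε (MvPolynomial.X (i.succAbove t)) - MvPolynomial.X (i.succAbove t)) ∈ I)
    refine I.neg_mem (Ideal.subset_span ?_)
    fin_cases t
    · exact Or.inl rfl
    · exact Or.inr rfl
  have hmem : ∀ (y : CohB1.ProjSpace 2 k), y ∉ Proj.basicOpen (CohB1.polyGrading 2 k) (VBPnHyper.form (n := 1) (v j₁)) →
      y ∉ Proj.basicOpen (CohB1.polyGrading 2 k) (VBPnHyper.form (n := 1) (v j₂)) →
      ∀ (d : ℕ) (q : MvPolynomial (Fin 3) k), q ∈ CohB1.polyGrading 2 k d →
        (q ∈ (show ProjectiveSpectrum (CohB1.polyGrading 2 k) from y).asHomogeneousIdeal ↔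
          MvPolynomial.eval a q = 0) := by
    intro y hy₁ hy₂ d q hq
    let J := (show ProjectiveSpectrum (CohB1.polyGrading 2 k) from y).asHomogeneousIdeal.toIdeal
    haveI : J.IsPrime := (show ProjectiveSpectrum (CohB1.polyGrading 2 k) from y).isPrime
    have hIJ : I ≤ J := Ideal.span_le.mpr fun p hp => by
      rcases hp with rfl | rfl
      · exact not_not.mp hy₁
      · exact not_not.mp hy₂
    have hq' : q.IsHomogeneous d := (MvPolynomial.mem_homogeneousSubmodule d q).mp hq
    have hε : ε q = MvPolynomial.C (MvPolynomial.eval a q) * MvPolynomial.X i ^ d := by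
      rw [MvPolynomial.eval_eq, map_sum, Finset.sum_mul]
      conv_lhs => rw [q.as_sum, map_sum]
      refine Finset.sum_congr rfl fun s hs => ?_
      have hsd : ∑ l ∈ s.support, s l = d := by
        simpa [Finsupp.weight_apply, Finsupp.sum] using hq' (MvPolynomial.mem_support_iff.mp hs)
      simp only [ε, MvPolynomial.aeval_monomial, Finsupp.prod, mul_pow, Finset.prod_mul_distrib, map_mul, map_prod,
        map_pow, Finset.prod_pow_eq_pow_sum, hsd, MvPolynomial.algebraMap_eq]
      ring
    have hsub : ε q - q ∈ J := hIJ (Ideal.Quotient.eq.mp (AlgHom.congr_fun hquot q))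
    show q ∈ J ↔ _
    have h1 : q ∈ J ↔ ε q ∈ J :=
      ⟨fun h => by simpa using J.add_mem hsub h, fun h => by simpa using J.sub_mem h hsub⟩
    rw [h1, hε]
    constructor
    · intro h
      by_contra hne
      have hu : IsUnit (MvPolynomial.C (MvPolynomial.eval a q) : MvPolynomial (Fin 3) k) :=
        (Ne.isUnit hne).map MvPolynomial.C
      have hXd := (Ideal.unit_mul_mem_iff_mem J hu).mp h
      have hX : (MvPolynomial.X i : MvPolynomial (Fin 3) k) ∈ J := Ideal.IsPrime.mem_of_pow_mem ‹_› d hXd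
      have hall : ∀ l, (MvPolynomial.X l : MvPolynomial (Fin 3) k) ∈ J := fun l => by
        have h2 := hIJ (Ideal.Quotient.eq.mp (AlgHom.congr_fun hquot (MvPolynomial.X l)))
        have h3 : ε (MvPolynomial.X l) ∈ J := by simpa [ε] using J.mul_mem_left (MvPolynomial.C (a l)) hX
        simpa using J.sub_mem h3 h2
      obtain ⟨t, ht⟩ := Opens.mem_iSup.mp ((iSup_stdOpen 2 k).ge (trivial : y ∈ (⊤ : (CohB1.ProjSpace 2 k).Opens)))
      exact ht (hall t)
    · intro h
      rw [h, map_zero, zero_mul]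
      exact J.zero_mem
  show x = z
  refine ProjectiveSpectrum.ext (HomogeneousIdeal.ext' fun d q hq => ?_)
  exact (hmem x hx₁ hx₂ d q hq).trans (hmem z (hlin _ (hv j₁)) (hlin _ (hv j₂)) d q hq).symm

end Groth.Agent.VBPnJump

end
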