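import Groth.Agent.VBPnJump.Glue
import Groth.Agent.VBPnJump.PointForms
import Groth.Agent.EulerChar.Curve

/-!
# The bundle of one point
-/

set_option autoImplicit false
set_option linter.style.haveILetI false
set_option backward.isDefEq.respectTransparency false
set_option backward.isDefEq.respectTransparency.types false
set_option synthInstance.maxHeartbeats 400000

universe u

open CategoryTheory CategoryTheory.Limits AlgebraicGeometry TopologicalSpace Opposite

noncomputable section

namespace Groth.Agent.VBPnJump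

open Groth.Agent.ProjTwist Groth.Agent.ProjTwist.Pn
open Groth.Agent.PullStalk.Exact (stalkLin stalk_exact)

theorem degen_comp_left {X : Scheme.{u}} {A B C : X.Modules} (a : A ⟶ B) {b : B ⟶ C} {x : X} (h : Degen b x) :
    Degen (a ≫ b) x := fun t => by
  rw [Omega.Stalks.stalkLin_comp]
  exact h _

theorem degen_comp_right {X : Scheme.{u}} {A B C : X.Modules} {a : A ⟶ B} (b : B ⟶ C) {x : X} (h : Degen a x) :
    Degen (a ≫ b) x := fun t => by
  rw [Omega.Stalks.stalkLin_comp]
  have h1 := Submodule.mem_map_of_mem (f := stalkLin b x) (h t)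
  rw [Submodule.map_smul''] at h1
  exact Submodule.smul_mono le_rfl le_top h1

theorem bijective_hom {X : Scheme.{u}} {A B : X.Modules} (e : A ≅ B) (x : X) :
    Function.Bijective (stalkLin e.hom x) := by
  refine ⟨Function.LeftInverse.injective (g := stalkLin e.inv x) fun t => ?_,
    Function.RightInverse.surjective (g := stalkLin e.inv x) fun t => ?_⟩
  · rw [← Omega.Stalks.stalkLin_comp, e.hom_inv_id, Omega.ProdDiff.stalkLin_id]
  · rw [← Omega.Stalks.stalkLin_comp, e.inv_hom_id, Omega.ProdDiff.stalkLin_id]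

theorem desc_sub {C : Type*} [Category C] [Abelian C] {A B B' W : C} (a : A ⟶ W) (b : B ⟶ W) (c : B' ⟶ W) :
    biprod.desc a (biprod.desc b c) - biprod.fst ≫ a = biprod.snd ≫ biprod.fst ≫ b + biprod.snd ≫ biprod.snd ≫ c := by
  simp [biprod.desc_eq]

variable {k : Type u} [Field k]

theorem mulHom_comm {n : ℕ} {a b b' c : ℤ} {e e' : ℕ} {p q : MvPolynomial (Fin (n + 1)) k}
    (hp : p ∈ CohB1.polyGrading n k e) (hq : q ∈ CohB1.polyGrading n k e') (h₁ : (e : ℤ) + a = b)
    (h₂ : (e' : ℤ) + b = c) (h₃ : (e' : ℤ) + a = b') (h₄ : (e : ℤ) + b' = c) :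
    SerrePn.mulHom a b hp h₁ ≫ SerrePn.mulHom b c hq h₂ = SerrePn.mulHom a b' hq h₃ ≫ SerrePn.mulHom b' c hp h₄ :=
  SerrePn.eq_of_mult_eq (by
    rw [DualAbs.mult_comp, DualAbs.mult_comp, SerrePn.mult_mulHom, SerrePn.mult_mulHom, SerrePn.mult_mulHom,
      SerrePn.mult_mulHom, mul_comm])

theorem hom_ne_zero_of_form {n : ℕ} {a b : ℤ} {e : ℕ} {p : MvPolynomial (Fin (n + 1)) k}
    (hp : p ∈ CohB1.polyGrading n k e) (h : (e : ℤ) + a = b) (hp0 : p ≠ 0) :
    SerrePn.mulHom a b hp h ≠ 0 := fun h0 => hp0 (toLau_injective (by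
  rw [← SerrePn.mult_mulHom hp h, h0, VBStable.mult_zero, map_zero]))

/-- Two degree one maps on the line degenerate at one point factor through a common monomorphism. -/
theorem common_factor (f₁ f₂ : Twist.twistProjSpace 1 k 1 ⟶ Twist.twistProjSpace 1 k 2) {y : CohB1.ProjSpace 1 k}
    (h₁ : Degen f₁ y) (h₂ : Degen f₂ y) (h0 : ¬ (f₁ = 0 ∧ f₂ = 0)) :
    ∃ (Q : Twist.twistProjSpace 1 k 1 ⊞ Twist.twistProjSpace 1 k 1 ⟶ Twist.twistProjSpace 1 k 1)
      (f : Twist.twistProjSpace 1 k 1 ⟶ Twist.twistProjSpace 1 k 2),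
      Epi Q ∧ Mono f ∧ Q ≫ f = biprod.desc f₁ f₂ := by
  haveI := VBStable.isIntegral_projSpace (n := 1) (k := k)
  obtain ⟨p, hp, rfl⟩ := SerrePn.exists_mulHom_eq f₁ (e := 1) (by norm_num)
  obtain ⟨q, hq, rfl⟩ := SerrePn.exists_mulHom_eq f₂ (e := 1) (by norm_num)
  have hyp := not_mem_of_degen hp _ h₁
  have hyq := not_mem_of_degen hq _ h₂
  have hzero : ∀ {r : MvPolynomial (Fin 2) k} (hr : r ∈ CohB1.polyGrading 1 k 1), r = 0 →
      SerrePn.mulHom 1 2 hr (by norm_num) = 0 := fun hr h => by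
    subst h
    refine SerrePn.eq_of_mult_eq ?_
    rw [SerrePn.mult_mulHom, VBStable.mult_zero, map_zero]
  have hmono : ∀ {r : MvPolynomial (Fin 2) k} (hr : r ∈ CohB1.polyGrading 1 k 1), r ≠ 0 →
      Mono (SerrePn.mulHom 1 2 hr (by norm_num)) := fun hr h =>
    EulerChar.mono_of_ne_zero (isInvertible_twistProjSpace 1 k 1) (isInvertible_twistProjSpace 1 k 2) _
      (hom_ne_zero_of_form hr _ h)
  by_cases hp0 : p = 0
  · have hq0 : q ≠ 0 := fun hq0 => h0 ⟨hzero hp hp0, hzero hq hq0⟩
    refine ⟨biprod.desc 0 (𝟙 _), SerrePn.mulHom 1 2 hq (by norm_num), ?_, hmono hq hq0, ?_⟩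
    · exact epi_of_epi_fac (f := biprod.inr) (biprod.inr_desc _ _)
    · apply biprod.hom_ext' <;> simp [hzero hp hp0]
  · obtain ⟨t, ht⟩ := dependent hp hq hp0 hyp hyq
    have hC : MvPolynomial.C t ∈ CohB1.polyGrading 1 k 0 :=
      (MvPolynomial.mem_homogeneousSubmodule 0 _).mpr (MvPolynomial.isHomogeneous_C _ _)
    refine ⟨biprod.desc (𝟙 _) (SerrePn.mulHom 1 1 hC (by norm_num)), SerrePn.mulHom 1 2 hp (by norm_num), ?_,
      hmono hp hp0, ?_⟩
    · exact epi_of_epi_fac (f := biprod.inl) (biprod.inl_desc _ _)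
    · apply biprod.hom_ext'
      · simp
      · simp only [biprod.inr_desc_assoc, biprod.inr_desc]
        refine SerrePn.eq_of_mult_eq ?_
        rw [DualAbs.mult_comp, SerrePn.mult_mulHom, SerrePn.mult_mulHom, SerrePn.mult_mulHom, ht, map_mul, mul_comm]

variable [IsAlgClosed k]

set_option maxHeartbeats 1600000 in
/-- The bundle of one point. -/
theorem Jump.point (z : CohB1.ProjSpace 2 k) (hz : IsClosed ({z} : Set (CohB1.ProjSpace 2 k))) :
    Nonempty (Jump k {z}) := by
  classical
  obtain ⟨l₁, l₂, h, hl₁, hl₂, hh, hz₁, hz₂, hzh, huniq⟩ := point_forms z hz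
  have hh2 : h ^ 2 ∈ CohB1.polyGrading 2 k 2 := by simpa using SetLike.pow_mem_graded 2 hh
  let u : Coh.structureModule (CohB1.ProjSpace 2 k) ⟶ Twist.twistProjSpace 2 k 0 :=
    (twistZeroIso (CohB1.polyGrading 2 k)).hom
  let m₁ := SerrePn.mulHom 1 2 hl₁ (by norm_num)
  let m₂ := SerrePn.mulHom 1 2 hl₂ (by norm_num)
  let n₁ := SerrePn.mulHom 0 1 hl₁ (by norm_num)
  let n₂ := SerrePn.mulHom 0 1 hl₂ (by norm_num)
  let T1 := Twist.twistProjSpace 2 k 1
  let w : Coh.structureModule (CohB1.ProjSpace 2 k) ⟶ Twist.twistProjSpace 2 k 2 :=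
    u ≫ SerrePn.mulHom 0 2 hh2 (by norm_num)
  have hu : ∀ x, Function.Bijective (stalkLin u x) := fun x =>
    bijective_hom (twistZeroIso (CohB1.polyGrading 2 k)) x
  have hw : ∀ x, x ∈ Proj.basicOpen (CohB1.polyGrading 2 k) h → Surj w x := fun x hx =>
    surj_comp (hu x).2 (mulHom_bijective hh2 _ (by rw [Proj.basicOpen_pow _ _ 2 (by norm_num)]; exact hx)).2
  let D : Coh.structureModule (CohB1.ProjSpace 2 k) ⊞ (T1 ⊞ T1) ⟶ Twist.twistProjSpace 2 k 2 :=
    biprod.desc w (biprod.desc m₁ m₂)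
  have hm : ∀ x, x ≠ z → Surj (biprod.desc m₁ m₂ : T1 ⊞ T1 ⟶ _) x := fun x hx => by
    by_cases h1 : x ∈ Proj.basicOpen (CohB1.polyGrading 2 k) l₁
    · exact surj_left _ _ (mulHom_bijective hl₁ _ h1).2
    · exact surj_right _ _ (mulHom_bijective hl₂ _ (by_contra fun h2 => hx (huniq x h1 h2))).2
  haveI hDepi : Epi D := Omega.Stalks.epi_of_stalk fun x => by
    by_cases hx : x = z
    · exact surj_left _ _ (hw x (hx ▸ hzh))
    · exact surj_right _ _ (hm x hx)
  have hO := DEq.LocFreeCx.isFinLocFree_of_ofRank (finLocFree_O (X := CohB1.ProjSpace 2 k))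
  have hT1r : FlatMod.IsFinLocFreeOfRank 1 T1 := isFinLocFreeOfRank_one (isInvertible_twistProjSpace 2 k 1)
  have hT1 := DEq.LocFreeCx.isFinLocFree_of_ofRank hT1r
  have hTT := PerfTri.Cone.isFinLocFree_biprod hT1 hT1
  have hT2r : FlatMod.IsFinLocFreeOfRank 1 (Twist.twistProjSpace 2 k 2) :=
    isFinLocFreeOfRank_one (isInvertible_twistProjSpace 2 k 2)
  have hT2 := DEq.LocFreeCx.isFinLocFree_of_ofRank hT2r
  have hM := PerfTri.Cone.isFinLocFree_biprod hO hTT
  let E := kernel D
  let ι : E ⟶ _ := kernel.ι D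
  have hE : FlatMod.IsFinLocFreeOfRank 2 E := ofRank_kernel D (r := 2) (s := 1) hM
    (fun y => by rw [VBPnSerre.fibreRank_biprod hO hTT, VBPnSerre.fibreRank_biprod hT1 hT1,
      DEq.LocFreeCx.fibreRank_of_ofRank (finLocFree_O (X := CohB1.ProjSpace 2 k)),
      DEq.LocFreeCx.fibreRank_of_ofRank hT1r]) hT2r
  let σ : Coh.structureModule (CohB1.ProjSpace 2 k) ⟶ E :=
    kernel.lift D (biprod.lift 0 (biprod.lift (u ≫ n₂) (-(u ≫ n₁)))) (by
      simp only [D, biprod.lift_desc, zero_comp, zero_add, Preadditive.neg_comp, Category.assoc]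
      rw [show n₂ ≫ m₁ = n₁ ≫ m₂ from mulHom_comm hl₂ hl₁ (by norm_num) (by norm_num) (by norm_num) (by norm_num),
        add_neg_cancel])
  refine ⟨{ E := E, hE := hE, σ := σ, π := ι ≫ biprod.fst, w := by simp [σ, ι],
            splitσ := ?_, surjπ := ?_, line := ?_ }⟩
  · intro x hx
    have hx' : x ≠ z := hx
    by_cases h1 : x ∈ Proj.basicOpen (CohB1.polyGrading 2 k) l₁
    · have hb : Function.Bijective (stalkLin (u ≫ n₁) x) := by
        rw [show ⇑(stalkLin (u ≫ n₁) x) = stalkLin n₁ x ∘ stalkLin u x from funext (Omega.Stalks.stalkLin_comp u n₁ x)]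
        exact (mulHom_bijective hl₁ _ h1).comp (hu x)
      refine ⟨-((LinearEquiv.ofBijective _ hb).symm.toLinearMap.comp
        ((stalkLin biprod.snd x).comp ((stalkLin biprod.snd x).comp (stalkLin ι x)))), fun t => ?_⟩
      simp only [LinearMap.neg_apply, LinearMap.comp_apply, ← Omega.Stalks.stalkLin_comp]
      rw [show (σ ≫ ι ≫ biprod.snd) ≫ biprod.snd = -(u ≫ n₁) by simp [σ, ι], stalkLin_neg, map_neg, neg_neg]
      exact (LinearEquiv.ofBijective _ hb).symm_apply_apply t
    · have h2 : x ∈ Proj.basicOpen (CohB1.polyGrading 2 k) l₂ := by_contra fun h2 => hx' (huniq x h1 h2)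
      have hb : Function.Bijective (stalkLin (u ≫ n₂) x) := by
        rw [show ⇑(stalkLin (u ≫ n₂) x) = stalkLin n₂ x ∘ stalkLin u x from funext (Omega.Stalks.stalkLin_comp u n₂ x)]
        exact (mulHom_bijective hl₂ _ h2).comp (hu x)
      refine ⟨(LinearEquiv.ofBijective _ hb).symm.toLinearMap.comp
        ((stalkLin biprod.fst x).comp ((stalkLin biprod.snd x).comp (stalkLin ι x))), fun t => ?_⟩
      simp only [LinearMap.comp_apply, ← Omega.Stalks.stalkLin_comp]
      rw [show (σ ≫ ι ≫ biprod.snd) ≫ biprod.fst = u ≫ n₂ by simp [σ, ι]]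
      exact (LinearEquiv.ofBijective _ hb).symm_apply_apply t
  · intro x hx t
    obtain ⟨a, ha⟩ := hm x hx (-stalkLin w x t)
    obtain ⟨-, hex, -⟩ := stalk_exact (shortExact_kernel' D) x
    obtain ⟨f, hf⟩ := (hex (stalkLin biprod.inl x t + stalkLin biprod.inr x a)).mp (by
      show stalkLin D x _ = 0
      rw [map_add, ← Omega.Stalks.stalkLin_comp, ← Omega.Stalks.stalkLin_comp]
      simp [D, ha])
    change stalkLin ι x f = _ at hf
    refine ⟨f, ?_⟩
    rw [Omega.Stalks.stalkLin_comp, hf, map_add, ← Omega.Stalks.stalkLin_comp, ← Omega.Stalks.stalkLin_comp]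
    simp [Omega.Stalks.stalkLin_zero, Omega.ProdDiff.stalkLin_id]
  · intro i hi hOi
    obtain ⟨e0'⟩ := VBPnHyper.nonempty_pullTwistO i hOi 0
    obtain ⟨e1⟩ := VBPnHyper.nonempty_pullTwistO i hOi 1
    obtain ⟨e2⟩ := VBPnHyper.nonempty_pullTwistO i hOi 2
    have he2 : χ k ((res k i).obj (Twist.twistProjSpace 2 k 2)) = 3 :=
      (euler_iso e2).trans ((euler_twist k 2).trans (by norm_num))
    constructor
    · have h3 := euler_res_add i ι D (kernel.condition D) (shortExact_kernel' D)
        (DEq.LocFreeCx.isFinLocFree_of_ofRank hE) hM hT2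
      rw [euler_res_biprod i hO hTT, euler_res_biprod i hT1 hT1, euler_res_O i hOi, he2,
        show χ k ((res k i).obj T1) = 2 from (euler_iso e1).trans ((euler_twist k 1).trans (by norm_num))] at h3
      omega
    haveI : (res k i).Additive := inferInstance
    by_cases hzi : z ∈ Set.range i.base
    · rw [show ({z} ∩ Set.range i.base).ncard = 1 by
        rw [Set.inter_eq_left.mpr (Set.singleton_subset_iff.mpr hzi), Set.ncard_singleton]]
      obtain ⟨y, hy⟩ := hzi
      have hd₁ : Degen (e1.inv ≫ (res k i).map m₁ ≫ e2.hom) y :=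
        degen_comp_left _ (degen_comp_right _ (degen_pullback i m₁ (fun t => by
          exact VBPnSerre.mulHom_stalk_mem hl₁ _ (hy.symm ▸ hz₁) t)))
      have hd₂ : Degen (e1.inv ≫ (res k i).map m₂ ≫ e2.hom) y :=
        degen_comp_left _ (degen_comp_right _ (degen_pullback i m₂ (fun t => by
          exact VBPnSerre.mulHom_stalk_mem hl₂ _ (hy.symm ▸ hz₂) t)))
      have hne : ¬ (e1.inv ≫ (res k i).map m₁ ≫ e2.hom = 0 ∧ e1.inv ≫ (res k i).map m₂ ≫ e2.hom = 0) := by
        rintro ⟨a₁, a₂⟩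
        have b₁ : (res k i).map m₁ = 0 := (cancel_epi e1.inv).mp ((cancel_mono e2.hom).mp (by
          rw [Category.assoc, a₁]; simp))
        have b₂ : (res k i).map m₂ = 0 := (cancel_epi e1.inv).mp ((cancel_mono e2.hom).mp (by
          rw [Category.assoc, a₂]; simp))
        haveI : Epi ((res k i).map D) :=
          (Functor.preservesEpimorphisms_of_adjunction (Scheme.Modules.pullbackPushforwardAdjunction i)).preserves D
        have hD0 : (res k i).map D = (res k i).map biprod.fst ≫ (res k i).map w := by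
          rw [← Functor.map_comp, ← sub_eq_zero, ← Functor.map_sub]
          have : D - biprod.fst ≫ w = biprod.snd ≫ biprod.fst ≫ m₁ + biprod.snd ≫ biprod.snd ≫ m₂ :=
            desc_sub w m₁ m₂
          rw [this, Functor.map_add, Functor.map_comp, Functor.map_comp, Functor.map_comp, Functor.map_comp, b₁, b₂]
          simp
        haveI : Epi ((res k i).map w) := epi_of_epi_fac hD0.symm
        let f0 := e0'.inv ≫ (res k i).map (twistZeroIso (CohB1.polyGrading 2 k)).inv ≫ (res k i).map w ≫ e2.hom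
        haveI : Epi f0 := inferInstance
        rcases VBPnSerre.classify (n := 1) le_rfl f0 with hiso | ⟨d, q, hd, hq, hdeg⟩
        · haveI := hiso
          have := euler_iso (asIso f0)
          rw [euler_twist, euler_twist] at this
          omega
        · obtain ⟨x, hx⟩ := ProjConst.exists_common_zero 1 k (ι := Unit) (by simp) hd (fun _ => q) (fun _ => hq)
          exact not_surj_of_degen (isFinLocFreeOfRank_one (isInvertible_twistProjSpace 1 k 2))
            (hdeg x (hx ())) (surj_of_epi f0 x)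
      obtain ⟨Q0, f, hQ0, hf, hQf⟩ := common_factor _ _ hd₁ hd₂ hne
      haveI := hQ0; haveI := hf
      let D' : (res k i).obj (Coh.structureModule (CohB1.ProjSpace 2 k)) ⊞ Twist.twistProjSpace 1 k 1 ⟶
          (res k i).obj (Twist.twistProjSpace 2 k 2) := biprod.desc ((res k i).map w) (f ≫ e2.inv)
      let Q12 := biprod.lift ((res k i).map (biprod.fst : T1 ⊞ T1 ⟶ T1) ≫ e1.hom)
        ((res k i).map (biprod.snd : T1 ⊞ T1 ⟶ T1) ≫ e1.hom)
      haveI : Epi Q12 := epi_lift_map (res k i) e1.hom e1.hom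
      let Q := biprod.lift ((res k i).map (biprod.fst : Coh.structureModule (CohB1.ProjSpace 2 k) ⊞ (T1 ⊞ T1) ⟶ _) ≫ 𝟙 _)
        ((res k i).map (biprod.snd : Coh.structureModule (CohB1.ProjSpace 2 k) ⊞ (T1 ⊞ T1) ⟶ _) ≫ Q12 ≫ Q0)
      haveI : Epi Q := epi_lift_map (res k i) _ _
      have hQ : Q ≫ D' = (res k i).map D := by
        simp only [Q, Q12, D', biprod.lift_desc, Category.assoc, Category.id_comp, reassoc_of% hQf]
        simp only [biprod.lift_desc_assoc, Preadditive.add_comp, Category.assoc, Iso.hom_inv_id, Category.comp_id,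
          Iso.hom_inv_id_assoc]
        simp only [← Functor.map_comp, ← Functor.map_add]
        simp only [D, biprod.desc_eq, Preadditive.comp_add]
      haveI : Epi ((res k i).map D) :=
          (Functor.preservesEpimorphisms_of_adjunction (Scheme.Modules.pullbackPushforwardAdjunction i)).preserves D
      haveI : Epi D' := epi_of_epi_fac hQ
      haveI := epi_kernel_lift ((res k i).map D) Q D' hQ
      obtain ⟨wG, hG⟩ := CycLib.ChowOp.shortExact_pullback i ι D (kernel.condition D) (shortExact_kernel' D) hT2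
      haveI := hG.mono_f
      let e : (res k i).obj E ≅ kernel ((res k i).map D) := hG.fIsKernel.conePointUniqueUpToIso (limit.isLimit _)
      have he : e.hom ≫ kernel.ι ((res k i).map D) = (res k i).map ι :=
        IsLimit.conePointUniqueUpToIso_hom_comp hG.fIsKernel (limit.isLimit _) WalkingParallelPair.zero
      obtain ⟨φ⟩ := kernel_line D' (isFinLocFreeOfRank_one (PicCl.isInvertible_pullback i (LFFrame.isInvertible_structureModule _)))
        (isFinLocFreeOfRank_one (isInvertible_twistProjSpace 1 k _))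
        (isFinLocFreeOfRank_one (PicCl.isInvertible_pullback i (isInvertible_twistProjSpace 2 k 2)))
        (d := -((1 : ℕ) : ℤ)) (by rw [euler_res_O i hOi, euler_twist, he2]; norm_num)
      haveI : Mono (f ≫ e2.inv) := mono_comp _ _
      haveI : Mono (kernel.ι D' ≫ biprod.fst) := mono_kernel_fst _ _
      refine ⟨e.hom ≫ kernel.lift D' (kernel.ι ((res k i).map D) ≫ Q) (by rw [Category.assoc, hQ, kernel.condition]) ≫ φ.hom,
        φ.inv ≫ kernel.ι D' ≫ biprod.fst, inferInstance, mono_comp _ _, ?_⟩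
      simp only [Category.assoc, Iso.hom_inv_id_assoc, kernel.lift_ι_assoc]
      rw [reassoc_of% he]
      simp only [Q, biprod.lift_fst, Category.comp_id, ← Functor.map_comp]
    · rw [show ({z} ∩ Set.range i.base).ncard = 0 by
        rw [Set.singleton_inter_eq_empty.mpr hzi, Set.ncard_empty]]
      let e0 := (res k i).mapIso (twistZeroIso (CohB1.polyGrading 2 k)) ≪≫ e0'
      haveI : Epi ((res k i).map (ι ≫ biprod.fst)) := Omega.Stalks.epi_of_stalk fun y =>
        surj_pullback i _ (fun t => by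
          have hy : i.base y ≠ z := fun h => hzi ⟨y, h⟩
          obtain ⟨a, ha⟩ := hm _ hy (-stalkLin w _ t)
          obtain ⟨-, hex, -⟩ := stalk_exact (shortExact_kernel' D) (i.base y)
          obtain ⟨f, hf⟩ := (hex (stalkLin biprod.inl _ t + stalkLin biprod.inr _ a)).mp (by
            show stalkLin D _ _ = 0
            rw [map_add, ← Omega.Stalks.stalkLin_comp, ← Omega.Stalks.stalkLin_comp]
            simp [D, ha])
          change stalkLin ι _ f = _ at hf
          refine ⟨f, ?_⟩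
          rw [Omega.Stalks.stalkLin_comp, hf, map_add, ← Omega.Stalks.stalkLin_comp, ← Omega.Stalks.stalkLin_comp]
          simp [Omega.Stalks.stalkLin_zero, Omega.ProdDiff.stalkLin_id])
      exact ⟨(res k i).map (ι ≫ biprod.fst) ≫ e0.hom, e0.inv, inferInstance, inferInstance, by simp⟩

end Groth.Agent.VBPnJump

end
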